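import Mathlib
import Cfsg.Agent.Lib.Perm.Fpf.Basic
import Cfsg.Agent.S4417

/-!
# Half-transitive linear p-groups: generalities

A linear group all of whose orbits on non-zero vectors have the same length has point stabilisers of constant
order; this forces semiregularity in the reducible case.
-/

set_option autoImplicit false

namespace Cfsg.Agent.LocalEven.HalfTrans

universe u v

variable {q : ℕ} {V : Type v} [AddCommGroup V] [Module (ZMod q) V] {G : Type u} [Group G]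
  {ρ : G →* (V ≃ₗ[ZMod q] V)}

/-- The stabiliser of a vector. -/
def stab (ρ : G →* (V ≃ₗ[ZMod q] V)) (v : V) : Subgroup G :=
  (MulAction.stabilizer (V ≃ₗ[ZMod q] V) v).comap ρ

theorem mem_stab {v : V} {g : G} : g ∈ stab ρ v ↔ ρ g v = v := Iff.rfl

theorem rho_mul (g h : G) (v : V) : ρ (g * h) v = ρ g (ρ h v) := by rw [map_mul]; rfl

theorem rho_one (v : V) : ρ 1 v = v := by rw [map_one]; rfl

theorem rho_inv_apply (g : G) (v : V) : ρ g⁻¹ (ρ g v) = v := by
  rw [← rho_mul, inv_mul_cancel, rho_one]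

theorem rho_apply_inv (g : G) (v : V) : ρ g (ρ g⁻¹ v) = v := by
  rw [← rho_mul, mul_inv_cancel, rho_one]

theorem rho_ne_zero (g : G) {v : V} (hv : v ≠ 0) : ρ g v ≠ 0 :=
  fun h => hv (by simpa using congrArg (ρ g⁻¹) h |>.trans (map_zero _) |> (rho_inv_apply g v).symm.trans)

theorem rho_pow_fix {g : G} {v : V} (h : ρ g v = v) (n : ℕ) : ρ (g ^ n) v = v :=
  (stab ρ v).pow_mem h n

/-- Orbit-stabiliser. -/
theorem orbit_stab [Finite G] (ρ : G →* (V ≃ₗ[ZMod q] V)) (v : V) :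
    Nat.card {u : V | ∃ g : G, ρ g v = u} * Nat.card (stab ρ v) = Nat.card G := by
  let _ : MulAction G V := MulAction.compHom V ρ
  have h1 : {u : V | ∃ g : G, ρ g v = u} = MulAction.orbit G v := rfl
  have h2 : stab ρ v = MulAction.stabilizer G v := by ext g; rfl
  rw [h1, h2, Nat.card_congr (MulAction.orbitEquivQuotientStabilizer G v), ← Subgroup.index_eq_card,
    Subgroup.index_mul_card]

/-- The orbit of a vector under a subgroup. -/
def orb (ρ : G →* (V ≃ₗ[ZMod q] V)) (H : Subgroup G) (v : V) : Set V :=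
  {u : V | ∃ h ∈ H, ρ h v = u}

theorem orb_card_mul [Finite G] (H : Subgroup G) {v : V} (hle : stab ρ v ≤ H) :
    Nat.card (orb ρ H v) * Nat.card (stab ρ v) = Nat.card H := by
  have h1 := orbit_stab (ρ.comp H.subtype) v
  have h2 : {u : V | ∃ g : H, (ρ.comp H.subtype) g v = u} = orb ρ H v := by
    ext u
    constructor
    · rintro ⟨g, hg⟩; exact ⟨g, g.2, hg⟩
    · rintro ⟨g, hgH, hg⟩; exact ⟨⟨g, hgH⟩, hg⟩
  have h3 : stab (ρ.comp H.subtype) v = (stab ρ v).subgroupOf H := by ext g; rfl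
  rw [h2, h3, Nat.card_congr (Subgroup.subgroupOfEquivOfLe hle).toEquiv] at h1
  exact h1

/-- All stabilisers of non-zero vectors have the same order. -/
def EqStab (ρ : G →* (V ≃ₗ[ZMod q] V)) : Prop :=
  ∀ v w : V, v ≠ 0 → w ≠ 0 → Nat.card (stab ρ v) = Nat.card (stab ρ w)

/-- No non-trivial element fixes a non-zero vector. -/
def Semi (ρ : G →* (V ≃ₗ[ZMod q] V)) : Prop :=
  ∀ v : V, v ≠ 0 → ∀ g : G, ρ g v = v → g = 1

theorem eqStab_of_orbits [Finite G] [Finite V] (ρ : G →* (V ≃ₗ[ZMod q] V))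
    (hhalf : ∀ v w : V, v ≠ 0 → w ≠ 0 →
      Nat.card {u : V | ∃ g : G, ρ g v = u} = Nat.card {u : V | ∃ g : G, ρ g w = u}) : EqStab ρ := by
  intro v w hv hw
  have h := hhalf v w hv hw
  have hne : Nonempty {u : V | ∃ g : G, ρ g w = u} := ⟨⟨w, 1, rho_one w⟩⟩
  have hpos : 0 < Nat.card {u : V | ∃ g : G, ρ g w = u} := Nat.card_pos
  refine mul_left_cancel₀ hpos.ne' ?_
  rw [orbit_stab ρ w, ← h, orbit_stab ρ v]

variable [Finite G]

theorem EqStab.eq_of_le (hst : EqStab ρ) {v w : V} (hv : v ≠ 0) (hw : w ≠ 0) (hle : stab ρ v ≤ stab ρ w) :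
    stab ρ v = stab ρ w :=
  Subgroup.eq_of_le_of_card_ge hle (hst v w hv hw).ge

theorem EqStab.eq_of_sum (hst : EqStab ρ) {v w : V} (hv : v ≠ 0) (hw : w ≠ 0) (hvw : v + w ≠ 0)
    (h : ∀ g : G, ρ g (v + w) = v + w → ρ g v = v ∧ ρ g w = w) : stab ρ v = stab ρ w := by
  have h1 : stab ρ (v + w) = stab ρ v := hst.eq_of_le hvw hv fun g hg => (h g hg).1
  have h2 : stab ρ (v + w) = stab ρ w := hst.eq_of_le hvw hw fun g hg => (h g hg).2
  exact h1.symm.trans h2

theorem EqStab.semi_of_one (hst : EqStab ρ) {v : V} (hv : v ≠ 0) (h : ∀ g ∈ stab ρ v, g = 1) : Semi ρ := by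
  intro w hw g hg
  have h1 : stab ρ v = ⊥ := (Subgroup.eq_bot_iff_forall _).2 h
  have h2 : Nat.card (stab ρ w) = 1 := by rw [← hst v w hv hw, h1, Subgroup.card_bot]
  exact Subgroup.mem_bot.1 ((Subgroup.card_eq_one.1 h2) ▸ (mem_stab.2 hg))

theorem EqStab.exists_fix (hst : EqStab ρ) (hns : ¬ Semi ρ) {v : V} (hv : v ≠ 0) :
    ∃ g : G, g ≠ 1 ∧ ρ g v = v := by
  by_contra h
  exact hns (hst.semi_of_one hv fun g hg => by_contra fun hg1 => h ⟨g, hg1, hg⟩)

/-- A semiregular p-group is cyclic or quaternion. -/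
theorem Semi.cyclic_or_quaternion [Fact q.Prime] [Nontrivial V] (hs : Semi ρ) {p : ℕ} [Fact p.Prime]
    (hG : IsPGroup p G) : IsCyclic G ∨ ∃ n : ℕ, Nonempty (G ≃* QuaternionGroup n) := by
  let ρ' : G →* Module.End (ZMod q) V :=
    { toFun := fun g => (ρ g : V →ₗ[ZMod q] V)
      map_one' := by rw [map_one]; rfl
      map_mul' := fun a b => by rw [map_mul]; rfl }
  have hf : Cfsg.Agent.Perm.Fpf.IsFpf ρ' := fun g hg x hx => by
    by_contra hx0
    exact hg (hs x hx0 g hx)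
  rcases hf.isCyclic_or_quaternion (⊤ : Subgroup G) (hG.to_subgroup ⊤) with h | ⟨-, n, ⟨e⟩⟩
  · exact Or.inl (Subgroup.topEquiv.isCyclic.1 h)
  · exact Or.inr ⟨2 ^ n, ⟨Subgroup.topEquiv.symm.trans e⟩⟩

omit [Finite G] in
theorem semi_of_subsingleton [Subsingleton G] : Semi ρ := fun _ _ g _ => Subsingleton.elim g 1

/-- In the defining characteristic the group is trivial. -/
theorem trivial_of_char [Fact q.Prime] [Finite V] [Nontrivial V] {p : ℕ} [Fact p.Prime] (hG : IsPGroup p G)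
    (hρ : Function.Injective ρ) (hst : EqStab ρ) (hpq : p = q) : Subsingleton G := by
  subst hpq
  let _ : MulAction G V := MulAction.compHom V ρ
  have hdvd : p ∣ Nat.card V := by
    obtain ⟨n, hn⟩ : ∃ n, Nat.card V = p ^ n := ⟨_, by
      rw [Module.natCard_eq_pow_finrank (K := ZMod p), Nat.card_zmod]⟩
    rcases Nat.eq_zero_or_pos n with h | h
    · rw [h, pow_zero] at hn
      have := Finite.one_lt_card (α := V)
      omega
    · rw [hn]; exact dvd_pow_self p h.ne'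
  have h0 : (0 : V) ∈ MulAction.fixedPoints G V := fun g => map_zero (ρ g)
  obtain ⟨y, hy, hy0⟩ := hG.exists_fixed_point_of_prime_dvd_card_of_fixed_point V hdvd h0
  have hall : ∀ (g : G) (w : V), ρ g w = w := by
    intro g w
    rcases eq_or_ne w 0 with rfl | hw
    · exact map_zero _
    have h1 : stab ρ w = stab ρ y :=
      hst.eq_of_le hw hy0.symm fun a _ => (hy a : ρ a y = y)
    have : g ∈ stab ρ w := h1 ▸ (hy g : ρ g y = y)
    exact this
  refine ⟨fun a b => hρ (LinearEquiv.ext fun w => (hall a w).trans (hall b w).symm)⟩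

/-- A reducible half-transitive group is semiregular. -/
theorem semi_of_reducible [Fact q.Prime] [Finite V] {p : ℕ} [Fact p.Prime] (hG : IsPGroup p G) (hpq : p ≠ q)
    (hρ : Function.Injective ρ) (hst : EqStab ρ) (U : Submodule (ZMod q) V)
    (hU : ∀ g : G, ∀ u ∈ U, ρ g u ∈ U) (hU0 : U ≠ ⊥) (hU1 : U ≠ ⊤) : Semi ρ := by
  let ρ' : Representation (ZMod q) G V :=
    { toFun := fun g => (ρ g : V →ₗ[ZMod q] V)
      map_one' := by rw [map_one]; rfl
      map_mul' := fun a b => by rw [map_mul]; rfl }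
  have hq : q.Prime := Fact.out
  have hp : p.Prime := Fact.out
  have hnd : ¬ p ∣ Fintype.card (ZMod q) := by
    rw [ZMod.card]; exact fun h => hpq ((Nat.prime_dvd_prime_iff_eq hp hq).1 h)
  obtain ⟨W, hW, hc⟩ := Cfsg.Agent.S4417.exists_invariant_compl.{u, 0, v} hnd hG ρ' U hU
  have hW0 : W ≠ ⊥ := fun h => hU1 (by have := hc.sup_eq_top; rwa [h, sup_bot_eq] at this)
  have hdis : ∀ x ∈ U, x ∈ W → x = 0 := fun x h1 h2 => Submodule.disjoint_def.1 hc.disjoint x h1 h2
  have hkey : ∀ a ∈ U, a ≠ 0 → ∀ b ∈ W, b ≠ 0 → stab ρ a = stab ρ b := by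
    intro a ha ha0 b hb hb0
    have hne : a + b ≠ 0 := fun h =>
      ha0 (hdis a ha (by rw [eq_neg_of_add_eq_zero_left h]; exact neg_mem hb))
    refine hst.eq_of_sum ha0 hb0 hne fun g hg => ?_
    rw [map_add] at hg
    have h1 : ρ g a - a = b - ρ g b := by
      rw [sub_eq_sub_iff_add_eq_add, hg, add_comm]
    have h2 : ρ g a - a = 0 := hdis _ (sub_mem (hU g a ha) ha) (h1 ▸ sub_mem hb (hW g b hb))
    rw [h2, eq_comm, sub_eq_zero] at h1
    exact ⟨sub_eq_zero.1 h2, h1.symm⟩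
  obtain ⟨a0, ha0, ha00⟩ := Submodule.exists_mem_ne_zero_of_ne_bot hU0
  obtain ⟨b0, hb0, hb00⟩ := Submodule.exists_mem_ne_zero_of_ne_bot hW0
  refine hst.semi_of_one ha00 fun g hg => hρ (LinearEquiv.ext fun x => ?_)
  rw [map_one]
  show ρ g x = x
  obtain ⟨a, ha, b, hb, rfl⟩ := Submodule.mem_sup.1 (hc.sup_eq_top.symm ▸ Submodule.mem_top : x ∈ U ⊔ W)
  rw [map_add]
  congr 1
  · rcases eq_or_ne a 0 with rfl | h
    · exact map_zero _
    · exact mem_stab.1 (show g ∈ stab ρ a by rw [hkey a ha h b0 hb0 hb00, ← hkey a0 ha0 ha00 b0 hb0 hb00]; exact hg)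
  · rcases eq_or_ne b 0 with rfl | h
    · exact map_zero _
    · exact mem_stab.1 (hkey a0 ha0 ha00 b hb h ▸ hg)

omit [Finite G] in
/-- In an irreducible faithful group a central element fixing a non-zero vector is trivial. -/
theorem eq_one_of_central (hρ : Function.Injective ρ)
    (hirr : ∀ W : Submodule (ZMod q) V, (∀ g : G, ∀ w ∈ W, ρ g w ∈ W) → W = ⊥ ∨ W = ⊤)
    {z : G} (hz : ∀ g : G, g * z = z * g) {v : V} (hv : v ≠ 0) (h : ρ z v = v) : z = 1 := by
  let S : Submodule (ZMod q) V := LinearMap.ker ((ρ z : V →ₗ[ZMod q] V) - 1)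
  have hS : ∀ x, x ∈ S ↔ ρ z x = x := fun x => by simp [S, LinearMap.mem_ker, sub_eq_zero]
  rcases hirr S fun g x hx => (hS _).2 (by rw [← rho_mul, ← hz, rho_mul, (hS x).1 hx]) with hb | ht
  · exact absurd ((Submodule.mem_bot _).1 (hb ▸ (hS v).2 h)) hv
  · exact hρ (LinearEquiv.ext fun x => by rw [rho_one]; exact (hS x).1 (ht ▸ Submodule.mem_top))

/-- An element of order `p` in the stabiliser of a vector, if the group is not semiregular. -/
theorem exists_order_p {p : ℕ} [Fact p.Prime] (hG : IsPGroup p G) (hns : ¬ Semi ρ) :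
    ∃ (v : V) (g : G), v ≠ 0 ∧ orderOf g = p ∧ ρ g v = v := by
  simp only [Semi, not_forall] at hns
  obtain ⟨v, hv, g, hg, hg1⟩ := hns
  obtain ⟨k, hk⟩ := IsPGroup.iff_orderOf.1 hG g
  obtain ⟨k, rfl⟩ : ∃ j, k = j + 1 := Nat.exists_eq_add_one.2 (Nat.pos_of_ne_zero fun h => hg1 (by
    rwa [h, pow_zero, orderOf_eq_one_iff] at hk))
  refine ⟨v, g ^ p ^ k, hv, ?_, rho_pow_fix hg _⟩
  rw [orderOf_pow_of_dvd (pow_ne_zero _ (Fact.out : p.Prime).ne_zero) (hk ▸ pow_dvd_pow p k.le_succ), hk, pow_succ,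
    Nat.mul_div_cancel_left _ (pow_pos (Fact.out : p.Prime).pos _)]

theorem semi_of_central_order {p : ℕ} [Fact p.Prime] (hG : IsPGroup p G) (hρ : Function.Injective ρ)
    (hirr : ∀ W : Submodule (ZMod q) V, (∀ g : G, ∀ w ∈ W, ρ g w ∈ W) → W = ⊥ ∨ W = ⊤)
    (hc : ∀ z : G, orderOf z = p → ∀ g : G, g * z = z * g) : Semi ρ := by
  by_contra hns
  obtain ⟨v, g, hv, ho, hg⟩ := exists_order_p hG hns
  rw [eq_one_of_central hρ hirr (hc g ho) hv hg, orderOf_one] at ho
  exact (Fact.out : p.Prime).ne_one ho.symm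

omit [Finite G] in
theorem comm_of_quaternion {p : ℕ} [Fact p.Prime] (hG : IsPGroup p G) {n : ℕ} [Finite G]
    (e : G ≃* QuaternionGroup n) (z : G) (hz : orderOf z = p) (g : G) : g * z = z * g := by
  have : Finite (QuaternionGroup n) := Finite.of_equiv G e.toEquiv
  have hn : NeZero n := ⟨fun h => by
    subst h
    have : Finite (ZMod (2 * 0)) := Finite.of_injective (QuaternionGroup.a (n := 0)) fun _ _ h => by simpa using h
    exact (Infinite.not_finite (α := ℤ)) this⟩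
  have hp2 : p = 2 := by
    obtain ⟨k, hk⟩ := IsPGroup.iff_orderOf.1 hG (e.symm (QuaternionGroup.xa 0))
    rw [MulEquiv.orderOf_eq, QuaternionGroup.orderOf_xa] at hk
    exact ((Nat.prime_dvd_prime_iff_eq Nat.prime_two Fact.out).1
      (Nat.prime_two.dvd_of_dvd_pow (hk ▸ (by norm_num : 2 ∣ 4)))).symm
  subst hp2
  have h2 : e z * e z = 1 := by rw [← map_mul, ← pow_two, ← hz, pow_orderOf_eq_one, map_one]
  apply e.injective
  rw [map_mul, map_mul]
  cases hx : e z with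
  | a i =>
    rw [hx, QuaternionGroup.a_mul_a, QuaternionGroup.one_def] at h2
    have hi : i + i = 0 := QuaternionGroup.a.inj h2
    cases e g with
    | a j => rw [QuaternionGroup.a_mul_a, QuaternionGroup.a_mul_a, add_comm]
    | xa j =>
      rw [QuaternionGroup.xa_mul_a, QuaternionGroup.a_mul_xa]
      congr 1
      rw [eq_sub_iff_add_eq, add_assoc, hi, add_zero]
  | xa i =>
    exfalso
    rw [hx, QuaternionGroup.xa_mul_xa, QuaternionGroup.one_def] at h2
    have h3 := QuaternionGroup.a.inj h2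
    rw [add_sub_cancel_right, ZMod.natCast_eq_zero_iff] at h3
    have := Nat.le_of_dvd (Nat.pos_of_ne_zero hn.out) h3
    have := hn.out
    omega

end Cfsg.Agent.LocalEven.HalfTrans
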