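import Cfsg.Agent.Lib.LocalEven.HalfTrans.Basic

/-!
# Half-transitive imprimitive linear p-groups

With at least three blocks, or with two blocks on neither of which the block stabiliser is transitive, the group
is semiregular. Otherwise it is a monomial group of degree two, or the space has order 81.
-/

set_option autoImplicit false
set_option linter.unusedSectionVars false

namespace Cfsg.Agent.LocalEven.HalfTrans

universe u v

/-- If `q ^ d - 1` is a power of two then `d = 1` or `q ^ d = 9`. -/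
theorem exp_of_pred_pow {q d a : ℕ} (hq : q.Prime) (hq2 : q ≠ 2) (hd : 1 ≤ d) (h : 2 ^ a + 1 = q ^ d) :
    d = 1 ∨ (q = 3 ∧ d = 2) := by
  have hq3 : 3 ≤ q := by have := hq.two_le; omega
  have hqo : Odd q := hq.odd_of_ne_two hq2
  rcases Nat.even_or_odd d with ⟨e, rfl⟩ | hdo
  · right
    have he : 1 ≤ e := by omega
    have hx : 3 ≤ q ^ e := hq3.trans (Nat.le_self_pow (by omega) q)
    obtain ⟨w, hw⟩ : ∃ w, q ^ e = w + 1 := ⟨q ^ e - 1, by omega⟩
    have h1 : w * (w + 2) = 2 ^ a := by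
      rw [pow_add, hw] at h
      nlinarith
    obtain ⟨i, -, hi⟩ := (Nat.dvd_prime_pow Nat.prime_two).1 ⟨w + 2, h1.symm⟩
    obtain ⟨j, -, hj⟩ := (Nat.dvd_prime_pow Nat.prime_two).1 ⟨w, (mul_comm (w + 2) w ▸ h1).symm⟩
    have hw2 : w = 2 := by
      rcases i with _ | _ | i
      · simp only [pow_zero] at hi; omega
      · simpa using hi
      · exfalso
        have h4 : 4 ∣ w := hi ▸ ⟨2 ^ i, by ring⟩
        rcases j with _ | _ | j
        · simp at hj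
        · simp at hj; omega
        · have : 4 ∣ w + 2 := hj ▸ ⟨2 ^ j, by ring⟩
          omega
    rw [hw2] at hw
    have h3 : q = 3 := by
      have := Nat.le_self_pow (n := e) (by omega) q
      omega
    subst h3
    have : 3 ^ e = 3 ^ 1 := by rw [hw]; norm_num
    have := Nat.pow_right_injective (by norm_num : 2 ≤ 3) this
    omega
  · left
    obtain ⟨w, hw⟩ : ∃ w, q = w + 1 := ⟨q - 1, by omega⟩
    have hgeom := geom_sum_mul_add w d
    rw [← hw] at hgeom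
    set S := ∑ i ∈ Finset.range d, q ^ i with hS
    have hS2 : S * w = 2 ^ a := by omega
    obtain ⟨j, -, hj⟩ := (Nat.dvd_prime_pow Nat.prime_two).1 ⟨w, hS2.symm⟩
    have hodd : (S : ZMod 2) = 1 := by
      rw [hS, Nat.cast_sum]
      simp only [Nat.cast_pow, (ZMod.natCast_eq_one_iff_odd).2 hqo, one_pow, Finset.sum_const, Finset.card_range,
        nsmul_eq_mul, mul_one]
      exact (ZMod.natCast_eq_one_iff_odd).2 hdo
    have hj0 : j = 0 := by
      by_contra hj0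
      rw [(ZMod.natCast_eq_zero_iff S 2).2 (hj ▸ dvd_pow_self 2 hj0)] at hodd
      exact zero_ne_one hodd
    rw [hj, hj0, pow_zero, one_mul] at hgeom
    exact Nat.pow_right_injective (by omega : 2 ≤ q) (show q ^ d = q ^ 1 by rw [pow_one]; omega)

variable {q : ℕ} [Fact q.Prime] {V : Type v} [AddCommGroup V] [Module (ZMod q) V] [Finite V] [Nontrivial V]
  {G : Type u} [Group G] [Finite G] {ρ : G →* (V ≃ₗ[ZMod q] V)}

/-- Two complementary subspaces preserved by a subgroup of index two and exchanged by the other elements. -/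
structure TwoBlocks (ρ : G →* (V ≃ₗ[ZMod q] V)) (H : Subgroup G) (W0 W1 : Submodule (ZMod q) V) : Prop where
  index : H.index = 2
  compl : IsCompl W0 W1
  keep0 : ∀ g ∈ H, ∀ w ∈ W0, ρ g w ∈ W0
  keep1 : ∀ g ∈ H, ∀ w ∈ W1, ρ g w ∈ W1
  swap0 : ∀ g : G, g ∉ H → ∀ w ∈ W0, ρ g w ∈ W1
  swap1 : ∀ g : G, g ∉ H → ∀ w ∈ W1, ρ g w ∈ W0

namespace TwoBlocks

variable {H : Subgroup G} {W0 W1 : Submodule (ZMod q) V}

theorem symm (h : TwoBlocks ρ H W0 W1) : TwoBlocks ρ H W1 W0 :=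
  ⟨h.index, h.compl.symm, h.keep1, h.keep0, h.swap1, h.swap0⟩

theorem eq_parts (h : TwoBlocks ρ H W0 W1) {a a' b b' : V} (ha : a ∈ W0) (ha' : a' ∈ W0) (hb : b ∈ W1)
    (hb' : b' ∈ W1) (he : a + b = a' + b') : a = a' ∧ b = b' := by
  have h1 : a - a' = b' - b := by rw [sub_eq_sub_iff_add_eq_add, he, add_comm]
  have h2 : a - a' = 0 :=
    Submodule.disjoint_def.1 h.compl.disjoint _ (sub_mem ha ha') (h1 ▸ sub_mem hb' hb)
  exact ⟨sub_eq_zero.1 h2, (sub_eq_zero.1 (h1.symm.trans h2)).symm⟩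

theorem outside (h : TwoBlocks ρ H W0 W1) : ∃ g, g ∉ H := by
  by_contra hc
  push Not at hc
  have := h.index
  rw [(Subgroup.eq_top_iff' H).2 hc, Subgroup.index_top] at this
  omega

theorem stab_le (h : TwoBlocks ρ H W0 W1) {v : V} (hv : v ∈ W0) (hv0 : v ≠ 0) : stab ρ v ≤ H := by
  intro g hg
  by_contra hgH
  have := h.swap0 g hgH v hv
  rw [mem_stab.1 hg] at this
  exact hv0 (Submodule.disjoint_def.1 h.compl.disjoint v hv this)

/-- The subgroup `H` is transitive on the non-zero vectors of `W1`. -/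
def Trans (ρ : G →* (V ≃ₗ[ZMod q] V)) (H : Subgroup G) (W1 : Submodule (ZMod q) V) : Prop :=
  ∀ v w : V, v ∈ W1 → w ∈ W1 → v ≠ 0 → w ≠ 0 → w ∈ orb ρ H v

theorem fixes_all (h : TwoBlocks ρ H W0 W1) (hq2 : q ≠ 2) (hst : EqStab ρ) (ht : ¬ Trans ρ H W1) {v1 : V}
    (hv1 : v1 ∈ W0) (hv10 : v1 ≠ 0) :
    (∀ w ∈ W1, ∀ g ∈ stab ρ v1, ρ g w = w) ∧ ∃ v2, v2 ∈ W1 ∧ v2 ≠ 0 ∧ stab ρ v1 = stab ρ v2 := by
  classical
  have hq : q.Prime := Fact.out
  obtain ⟨g0, hg0⟩ := h.outside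
  set u := ρ g0 v1 with hu
  have hu0 : u ≠ 0 := rho_ne_zero g0 hv10
  have hu1 : u ∈ W1 := h.swap0 g0 hg0 v1 hv1
  have horb : ∀ v ∈ W1, ∀ w ∈ orb ρ H v, w ∈ W1 := by
    rintro v hv w ⟨g, hg, rfl⟩; exact h.keep1 g hg v hv
  obtain ⟨w0, hw01, hw00, hw0⟩ : ∃ w, w ∈ W1 ∧ w ≠ 0 ∧ w ∉ orb ρ H u := by
    by_contra hc
    push Not at hc
    refine ht fun v w hv hw hv0 hw0 => ?_
    obtain ⟨a, ha, hav⟩ := hc v hv hv0
    obtain ⟨b, hb, hbw⟩ := hc w hw hw0
    exact ⟨b * a⁻¹, H.mul_mem hb (H.inv_mem ha), by rw [← hav, rho_mul, rho_inv_apply, hbw]⟩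
  have hkey : ∀ v2 ∈ W1, v2 ≠ 0 → v2 ∉ orb ρ H u → stab ρ v1 = stab ρ v2 := by
    intro v2 hv2 hv20 hvo
    refine hst.eq_of_sum hv10 hv20 (fun he => hv10 ?_) fun g hg => ?_
    · exact Submodule.disjoint_def.1 h.compl.disjoint v1 hv1 (by rw [eq_neg_of_add_eq_zero_left he]; exact neg_mem hv2)
    · rw [map_add] at hg
      by_cases hgH : g ∈ H
      · exact h.eq_parts (h.keep0 g hgH v1 hv1) hv1 (h.keep1 g hgH v2 hv2) hv2 hg
      · exfalso
        obtain ⟨-, h1⟩ := h.eq_parts (h.swap1 g hgH v2 hv2) hv1 (h.swap0 g hgH v1 hv1) hv2 (by rw [add_comm, hg])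
        refine hvo ⟨g * g0⁻¹, (Subgroup.mul_mem_iff_of_index_two h.index).2 ?_, by rw [hu, rho_mul, rho_inv_apply, h1]⟩
        exact iff_of_false hgH fun hh => hg0 (by simpa using H.inv_mem hh)
  refine ⟨?_, w0, hw01, hw00, hkey w0 hw01 hw00 hw0⟩
  -- the fixed space of the stabiliser contains the complement of an orbit
  let S : Submodule (ZMod q) V :=
    { carrier := {w | w ∈ W1 ∧ ∀ g ∈ stab ρ v1, ρ g w = w}
      add_mem' := fun {a b} ha hb => ⟨add_mem ha.1 hb.1, fun g hg => by rw [map_add, ha.2 g hg, hb.2 g hg]⟩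
      zero_mem' := ⟨zero_mem _, fun g _ => map_zero _⟩
      smul_mem' := fun c a ha => ⟨W1.smul_mem c ha.1, fun g hg => by rw [map_smul, ha.2 g hg]⟩ }
  have hSle : S ≤ W1 := fun w hw => hw.1
  suffices hS : S = W1 by
    intro w hw g hg
    exact (show w ∈ S from hS.symm ▸ hw).2 g hg
  by_contra hne
  have hlt : Module.finrank (ZMod q) S < Module.finrank (ZMod q) W1 :=
    Submodule.finrank_lt_finrank_of_lt (lt_of_le_of_ne hSle hne)
  have hq3 : 3 ≤ q := by have := hq.two_le; omega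
  have hcard : 3 * Nat.card S ≤ Nat.card W1 := by
    rw [Module.natCard_eq_pow_finrank (K := ZMod q) (V := S), Module.natCard_eq_pow_finrank (K := ZMod q) (V := W1),
      Nat.card_zmod]
    obtain ⟨k, hk⟩ : ∃ k, Module.finrank (ZMod q) W1 = Module.finrank (ZMod q) S + 1 + k :=
      ⟨_, (Nat.add_sub_cancel' hlt).symm⟩
    rw [hk, pow_add, pow_succ]
    calc 3 * q ^ Module.finrank (ZMod q) S ≤ q ^ Module.finrank (ZMod q) S * q * 1 := by rw [mul_one, mul_comm 3]; gcongr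
    _ ≤ _ := Nat.mul_le_mul_left _ (Nat.one_le_pow _ _ hq.pos)
  let A : Set V := {w | w ∈ W1 ∧ w ≠ 0 ∧ w ∉ orb ρ H u}
  have hsame : (orb ρ H w0).ncard = (orb ρ H u).ncard := by
    have h1 := orb_card_mul H (h.symm.stab_le hw01 hw00)
    have h2 := orb_card_mul H (h.symm.stab_le hu1 hu0)
    rw [hst w0 u hw00 hu0, ← h2] at h1
    rw [← Nat.card_coe_set_eq, ← Nat.card_coe_set_eq]
    exact Nat.eq_of_mul_eq_mul_right Nat.card_pos h1
  have hw0A : orb ρ H w0 ⊆ A := by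
    rintro w ⟨g, hg, rfl⟩
    refine ⟨h.keep1 g hg w0 hw01, rho_ne_zero g hw00, ?_⟩
    rintro ⟨a, ha, hau⟩
    exact hw0 ⟨g⁻¹ * a, H.mul_mem (H.inv_mem hg) ha, by rw [rho_mul, hau, rho_inv_apply]⟩
  have hAS : A ⊆ (S : Set V) \ {0} := fun w hw =>
    ⟨⟨hw.1, fun g hg => mem_stab.1 ((hkey w hw.1 hw.2.1 hw.2.2) ▸ hg)⟩, hw.2.1⟩
  have hunion : (W1 : Set V) \ {0} ⊆ orb ρ H u ∪ A := fun w hw =>
    (em (w ∈ orb ρ H u)).imp_right fun hn => ⟨hw.1, hw.2, hn⟩
  have h1 := (Set.ncard_le_ncard hunion (Set.toFinite _)).trans (Set.ncard_union_le _ _)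
  have h2 := Set.ncard_le_ncard hw0A (Set.toFinite _)
  have h3 := Set.ncard_le_ncard hAS (Set.toFinite _)
  have h4 := Set.ncard_diff_singleton_add_one (show (0 : V) ∈ (W1 : Set V) from zero_mem W1) (Set.toFinite _)
  have h5 := Set.ncard_diff_singleton_add_one (show (0 : V) ∈ (S : Set V) from zero_mem S) (Set.toFinite _)
  rw [← Nat.card_coe_set_eq (W1 : Set V)] at h4
  rw [← Nat.card_coe_set_eq (S : Set V)] at h5
  simp only [SetLike.coe_sort_coe] at h4 h5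
  omega

theorem semi_of_not_trans (h : TwoBlocks ρ H W0 W1) (hq2 : q ≠ 2) (hρ : Function.Injective ρ) (hst : EqStab ρ)
    (h0 : ¬ Trans ρ H W0) (h1 : ¬ Trans ρ H W1) (hne : W0 ≠ ⊥) : Semi ρ := by
  obtain ⟨v1, hv1, hv10⟩ := Submodule.exists_mem_ne_zero_of_ne_bot hne
  obtain ⟨hfix1, v2, hv2, hv20, he⟩ := h.fixes_all hq2 hst h1 hv1 hv10
  obtain ⟨hfix0, -⟩ := h.symm.fixes_all hq2 hst h0 hv2 hv20
  refine hst.semi_of_one hv10 fun g hg => hρ (LinearEquiv.ext fun x => ?_)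
  rw [rho_one]
  obtain ⟨a, ha, b, hb, rfl⟩ := Submodule.mem_sup.1 (h.compl.sup_eq_top.symm ▸ Submodule.mem_top : x ∈ W0 ⊔ W1)
  rw [map_add, hfix1 b hb g hg, hfix0 a ha g (he ▸ hg)]

theorem card_eq (h : TwoBlocks ρ H W0 W1) : Nat.card W0 = Nat.card W1 := by
  obtain ⟨g0, hg0⟩ := h.outside
  have hg0' : g0⁻¹ ∉ H := fun hh => hg0 (by simpa using H.inv_mem hh)
  exact Nat.card_congr
    { toFun := fun w => ⟨ρ g0 w, h.swap0 g0 hg0 w w.2⟩
      invFun := fun w => ⟨ρ g0⁻¹ w, h.swap1 g0⁻¹ hg0' w w.2⟩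
      left_inv := fun w => Subtype.ext (rho_inv_apply g0 (w : V))
      right_inv := fun w => Subtype.ext (rho_apply_inv g0 (w : V)) }

theorem monomial (h : TwoBlocks ρ H W0 W1) (hρ : Function.Injective ρ) (hst : EqStab ρ) (hns : ¬ Semi ρ)
    (h0 : Nat.card W0 = q) :
    ∃ e : V ≃ₗ[ZMod q] (Fin 2 → ZMod q), ∀ f : (Fin 2 → ZMod q) ≃ₗ[ZMod q] (Fin 2 → ZMod q),
      (∃ g : G, f = e.symm.trans ((ρ g).trans e)) ↔
        ∃ a s : ZMod q, a ≠ 0 ∧ (s = 1 ∨ s = -1) ∧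
          ((∀ v, f v = ![a * v 0, s * a⁻¹ * v 1]) ∨ (∀ v, f v = ![s * a⁻¹ * v 1, a * v 0])) := by
  classical
  have hq : q.Prime := Fact.out
  have hW : W0 ≠ ⊥ := fun hb => by
    rw [hb] at h0
    simp at h0
    exact hq.ne_one h0.symm
  obtain ⟨e1, he1, he10⟩ := Submodule.exists_mem_ne_zero_of_ne_bot hW
  obtain ⟨g0, hg0⟩ := h.outside
  set e2 := ρ g0 e1 with he2
  have he21 : e2 ∈ W1 := h.swap0 g0 hg0 e1 he1
  have he20 : e2 ≠ 0 := rho_ne_zero g0 he10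
  have hline : ∀ (W : Submodule (ZMod q) V) (e : V), Nat.card W = q → e ∈ W → e ≠ 0 →
      ∀ w ∈ W, ∃ a : ZMod q, a • e = w := by
    intro W e hW he he0 w hw
    obtain ⟨a, ha⟩ := ((Nat.bijective_iff_injective_and_card (fun a : ZMod q => (⟨a • e, W.smul_mem a he⟩ : W))).2
      ⟨fun a b hab => smul_left_injective (ZMod q) he0 (congrArg Subtype.val hab),
        by rw [Nat.card_zmod, hW]⟩).2 ⟨w, hw⟩
    exact ⟨a, congrArg Subtype.val ha⟩
  have hl0 := hline W0 e1 h0 he1 he10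
  have hl1 := hline W1 e2 (h.card_eq ▸ h0) he21 he20
  have hnz : ∀ (g : G) (e w : V) (a : ZMod q), w ≠ 0 → ρ g w = a • e → a ≠ 0 := fun g e w a hw hg ha =>
    rho_ne_zero g hw (by rw [hg, ha, zero_smul])
  -- the linear map to coordinates
  let L : (Fin 2 → ZMod q) →ₗ[ZMod q] V :=
    { toFun := fun v => v 0 • e1 + v 1 • e2
      map_add' := fun v w => by simp [add_smul]; abel
      map_smul' := fun c v => by simp [smul_add, mul_smul] }
  have hparts : ∀ a b a' b' : ZMod q, a • e1 + b • e2 = a' • e1 + b' • e2 → a = a' ∧ b = b' := by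
    intro a b a' b' he
    obtain ⟨h1, h2⟩ := h.eq_parts (W0.smul_mem a he1) (W0.smul_mem a' he1) (W1.smul_mem b he21)
      (W1.smul_mem b' he21) he
    exact ⟨smul_left_injective _ he10 h1, smul_left_injective _ he20 h2⟩
  have hL : Function.Bijective L := by
    refine ⟨fun v w hvw => ?_, fun x => ?_⟩
    · obtain ⟨h1, h2⟩ := hparts _ _ _ _ hvw
      funext i; fin_cases i <;> assumption
    · obtain ⟨a, ha, b, hb, rfl⟩ :=
        Submodule.mem_sup.1 (h.compl.sup_eq_top.symm ▸ Submodule.mem_top : x ∈ W0 ⊔ W1)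
      obtain ⟨a', rfl⟩ := hl0 a ha
      obtain ⟨b', rfl⟩ := hl1 b hb
      exact ⟨![a', b'], rfl⟩
  let e := (LinearEquiv.ofBijective L hL).symm
  have hes : ∀ v, e.symm v = v 0 • e1 + v 1 • e2 := fun v => by
    simp [e, L, LinearEquiv.ofBijective_apply]
  have heap : ∀ a b : ZMod q, e (a • e1 + b • e2) = ![a, b] := fun a b => by
    rw [← e.symm.injective.eq_iff, LinearEquiv.symm_apply_apply, hes]; rfl
  have hdiag : ∀ (g : G) (a b : ZMod q), ρ g e1 = a • e1 → ρ g e2 = b • e2 →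
      ∀ v, (e.symm.trans ((ρ g).trans e)) v = ![a * v 0, b * v 1] := by
    intro g a b ha hb v
    rw [LinearEquiv.trans_apply, LinearEquiv.trans_apply, hes, map_add, map_smul, map_smul, ha, hb, smul_smul,
      smul_smul, heap, mul_comm a, mul_comm b]
  have hanti : ∀ (g : G) (c d : ZMod q), ρ g e1 = c • e2 → ρ g e2 = d • e1 →
      ∀ v, (e.symm.trans ((ρ g).trans e)) v = ![d * v 1, c * v 0] := by
    intro g c d ha hb v
    rw [LinearEquiv.trans_apply, LinearEquiv.trans_apply, hes, map_add, map_smul, map_smul, ha, hb, smul_smul,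
      smul_smul, add_comm, heap, mul_comm d, mul_comm c]
  have hext : ∀ g g' : G, ρ g e1 = ρ g' e1 → ρ g e2 = ρ g' e2 → g = g' := fun g g' h1 h2 => hρ (LinearEquiv.ext
    fun x => by
      obtain ⟨v, rfl⟩ := hL.2 x
      show ρ g (v 0 • e1 + v 1 • e2) = ρ g' (v 0 • e1 + v 1 • e2)
      rw [map_add, map_add, map_smul, map_smul, map_smul, map_smul, h1, h2])
  -- the stabiliser of a vector off the axes
  have hoff : ∀ c : ZMod q, c ≠ 0 →
      (∃ g : G, ρ g e1 = c • e2 ∧ ρ g e2 = c⁻¹ • e1) ∧ Nat.card (stab ρ (e1 + c • e2)) ≤ 2 := by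
    intro c hc
    have hne : e1 + c • e2 ≠ 0 := fun he =>
      one_ne_zero (hparts 1 c 0 0 (by rw [one_smul, he, zero_smul, zero_smul, add_zero])).1
    have hmem : ∀ g ∈ stab ρ (e1 + c • e2), g = 1 ∨ (ρ g e1 = c • e2 ∧ ρ g e2 = c⁻¹ • e1) := by
      intro g hg
      rw [mem_stab, map_add, map_smul] at hg
      by_cases hgH : g ∈ H
      · left
        obtain ⟨a, ha⟩ := hl0 _ (h.keep0 g hgH e1 he1)
        obtain ⟨b, hb⟩ := hl1 _ (h.keep1 g hgH e2 he21)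
        rw [← ha, ← hb, smul_smul] at hg
        obtain ⟨h1, h2⟩ := hparts a (c * b) 1 c (by rw [one_smul]; exact hg)
        rw [mul_eq_left₀ hc] at h2
        refine hext g 1 ?_ ?_
        · rw [rho_one, ← ha, h1, one_smul]
        · rw [rho_one, ← hb, h2, one_smul]
      · right
        obtain ⟨a, ha⟩ := hl1 _ (h.swap0 g hgH e1 he1)
        obtain ⟨b, hb⟩ := hl0 _ (h.swap1 g hgH e2 he21)
        rw [← ha, ← hb, smul_smul, add_comm] at hg
        obtain ⟨h1, h2⟩ := hparts (c * b) a 1 c (by rw [one_smul]; exact hg)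
        refine ⟨by rw [← ha, h2], ?_⟩
        rw [← hb, eq_inv_of_mul_eq_one_right h1]
    obtain ⟨g, hg1, hg⟩ := hst.exists_fix hns hne
    refine ⟨⟨g, (hmem g hg).resolve_left hg1⟩, ?_⟩
    have hsub : (stab ρ (e1 + c • e2) : Set G) ⊆ {1, g} := by
      intro a ha
      rcases hmem a ha with h1 | ⟨h1, h2⟩
      · exact Or.inl h1
      · right
        obtain ⟨h3, h4⟩ := (hmem g hg).resolve_left hg1
        exact hext a g (h1.trans h3.symm) (h2.trans h4.symm)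
    have := Set.ncard_le_ncard hsub (Set.toFinite _)
    rw [← Nat.card_coe_set_eq] at this
    exact this.trans ((Set.ncard_insert_le _ _).trans (by simp))
  obtain ⟨t1, ht1, ht1'⟩ := (hoff 1 one_ne_zero).1
  rw [inv_one, one_smul] at ht1'
  rw [one_smul] at ht1
  have ht1H : t1 ∉ H := fun hh => he20 (Submodule.disjoint_def.1 h.compl.disjoint e2 (ht1 ▸ h.keep0 t1 hh e1 he1) he21)
  have hD : ∀ a : ZMod q, a ≠ 0 → ∃ g : G, ρ g e1 = a • e1 ∧ ρ g e2 = a⁻¹ • e2 := by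
    intro a ha
    obtain ⟨g, hg1, hg2⟩ := (hoff a⁻¹ (inv_ne_zero ha)).1
    refine ⟨g * t1, ?_, ?_⟩
    · rw [rho_mul, ht1, hg2, inv_inv]
    · rw [rho_mul, ht1', hg1]
  -- the stabiliser of `e1`
  obtain ⟨β, hβ1, hβ⟩ := hst.exists_fix hns he10
  have hB : ∀ g : G, ρ g e1 = e1 → g = 1 ∨ g = β := by
    intro g hg
    by_contra hc
    push Not at hc
    have hsub : ({1, β, g} : Set G) ⊆ stab ρ e1 := by
      rintro a (rfl | rfl | rfl)
      · exact one_mem _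
      · exact hβ
      · exact hg
    have h3 := Set.ncard_le_ncard hsub (Set.toFinite _)
    rw [Set.ncard_eq_three.2 ⟨1, β, g, hβ1.symm, hc.1.symm, hc.2.symm, rfl⟩, ← Nat.card_coe_set_eq] at h3
    have h4 := (hoff 1 one_ne_zero).2
    rw [← hst e1 _ he10 (fun he =>
      one_ne_zero (hparts 1 1 0 0 (by rw [one_smul, he, zero_smul, zero_smul, add_zero])).1)] at h4
    exact absurd (h3.trans h4) (by norm_num)
  have hβH : β ∈ H := h.stab_le he1 he10 hβ
  obtain ⟨b0, hb0⟩ := hl1 _ (h.keep1 β hβH e2 he21)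
  have hb0' : b0 = -1 := by
    have hb1 : b0 ≠ 1 := fun hh => hβ1 (hext β 1 (by rw [rho_one, hβ]) (by rw [rho_one, ← hb0, hh, one_smul]))
    have h2 : β * β = 1 := (hB (β * β) (by rw [rho_mul, hβ, hβ])).resolve_right fun hh =>
      hβ1 (mul_left_cancel (a := β) (by rw [hh, mul_one]))
    have h3 : (b0 * b0) • e2 = (1 : ZMod q) • e2 := by
      rw [one_smul, mul_smul, hb0, ← map_smul, hb0, ← rho_mul, h2, rho_one]
    exact (mul_self_eq_one_iff.1 (smul_left_injective _ he20 h3)).resolve_left hb1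
  have hHform : ∀ g ∈ H, ∃ a s : ZMod q, a ≠ 0 ∧ (s = 1 ∨ s = -1) ∧ ρ g e1 = a • e1 ∧ ρ g e2 = (s * a⁻¹) • e2 := by
    intro g hg
    obtain ⟨a, ha⟩ := hl0 _ (h.keep0 g hg e1 he1)
    obtain ⟨b, hb⟩ := hl1 _ (h.keep1 g hg e2 he21)
    have ha0 : a ≠ 0 := hnz g e1 e1 a he10 ha.symm
    obtain ⟨k, hk1, hk2⟩ := hD a⁻¹ (inv_ne_zero ha0)
    rw [inv_inv] at hk2
    refine ⟨a, b * a, ha0, ?_, ha.symm, by rw [mul_assoc, mul_inv_cancel₀ ha0, mul_one]; exact hb.symm⟩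
    rcases hB (k * g) (by rw [rho_mul, ← ha, map_smul, hk1, smul_smul, mul_inv_cancel₀ ha0, one_smul]) with h1 | h1
    · left
      refine smul_left_injective _ he20 ?_
      show (b * a) • e2 = (1 : ZMod q) • e2
      rw [mul_smul, ← hk2, ← map_smul, hb, ← rho_mul, h1, rho_one, one_smul]
    · right
      refine smul_left_injective _ he20 ?_
      show (b * a) • e2 = (-1 : ZMod q) • e2
      rw [mul_smul, ← hk2, ← map_smul, hb, ← rho_mul, h1, ← hb0, hb0']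
  refine ⟨e, fun f => ⟨?_, ?_⟩⟩
  · rintro ⟨g, rfl⟩
    by_cases hg : g ∈ H
    · obtain ⟨a, s, ha, hs, h1, h2⟩ := hHform g hg
      exact ⟨a, s, ha, hs, Or.inl (hdiag g a _ h1 h2)⟩
    · have hgt : g * t1 ∈ H := (Subgroup.mul_mem_iff_of_index_two h.index).2 (iff_of_false hg ht1H)
      obtain ⟨a, s, ha, hs, h1, h2⟩ := hHform _ hgt
      rw [rho_mul, ht1] at h1
      rw [rho_mul, ht1'] at h2
      have hs0 : s ≠ 0 := by rcases hs with rfl | rfl <;> simp
      have hc : (s * a⁻¹)⁻¹ = s * a := by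
        rw [mul_inv, inv_inv]
        rcases hs with rfl | rfl <;> simp [inv_neg]
      refine ⟨s * a⁻¹, s, mul_ne_zero hs0 (inv_ne_zero ha), hs, Or.inr fun v => ?_⟩
      rw [hanti g _ _ h2 h1, hc, ← mul_assoc s s a]
      rcases hs with rfl | rfl <;> simp
  · rintro ⟨a, s, ha, hs, hf⟩
    obtain ⟨g, hg1, hg2⟩ : ∃ g : G, ρ g e1 = a • e1 ∧ ρ g e2 = (s * a⁻¹) • e2 := by
      obtain ⟨k, hk1, hk2⟩ := hD a ha
      rcases hs with rfl | rfl
      · exact ⟨k, hk1, by rw [one_mul, hk2]⟩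
      · refine ⟨k * β, by rw [rho_mul, hβ, hk1], ?_⟩
        rw [rho_mul, ← hb0, hb0', map_smul, hk2, smul_smul]
    rcases hf with hf | hf
    · exact ⟨g, LinearEquiv.ext fun v => by rw [hf, hdiag g _ _ hg1 hg2]⟩
    · refine ⟨t1 * g, LinearEquiv.ext fun v => ?_⟩
      rw [hf, hanti (t1 * g) a (s * a⁻¹) (by rw [rho_mul, hg1, map_smul, ht1])
        (by rw [rho_mul, hg2, map_smul, ht1'])]

theorem trans_case (h : TwoBlocks ρ H W0 W1) (hG : IsPGroup 2 G) (hq2 : q ≠ 2) (hρ : Function.Injective ρ)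
    (hst : EqStab ρ) (hns : ¬ Semi ρ) (ht : Trans ρ H W1) (hne : W0 ≠ ⊥) :
    (Nat.card V = 81 ∧ q = 3) ∨ (Nat.card V = q ^ 2 ∧ (∃ m : ℕ, q = 2 ^ m + 1) ∧
      ∃ e : V ≃ₗ[ZMod q] (Fin 2 → ZMod q), ∀ f : (Fin 2 → ZMod q) ≃ₗ[ZMod q] (Fin 2 → ZMod q),
        (∃ g : G, f = e.symm.trans ((ρ g).trans e)) ↔
          ∃ a s : ZMod q, a ≠ 0 ∧ (s = 1 ∨ s = -1) ∧
            ((∀ v, f v = ![a * v 0, s * a⁻¹ * v 1]) ∨ (∀ v, f v = ![s * a⁻¹ * v 1, a * v 0]))) := by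
  classical
  have hq : q.Prime := Fact.out
  obtain ⟨v1, hv1, hv10⟩ := Submodule.exists_mem_ne_zero_of_ne_bot hne
  obtain ⟨g0, hg0⟩ := h.outside
  set u := ρ g0 v1
  have hu1 : u ∈ W1 := h.swap0 g0 hg0 v1 hv1
  have hu0 : u ≠ 0 := rho_ne_zero g0 hv10
  have horb : orb ρ H u = (W1 : Set V) \ {0} := Set.Subset.antisymm
    (by rintro w ⟨g, hg, rfl⟩; exact ⟨h.keep1 g hg u hu1, rho_ne_zero g hu0⟩)
    fun w hw => ht u w hu1 hw.1 hu0 hw.2
  obtain ⟨k, hk⟩ := IsPGroup.iff_card.1 (hG.to_subgroup H)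
  obtain ⟨a, -, ha⟩ := (Nat.dvd_prime_pow Nat.prime_two).1
    (hk ▸ ⟨_, (orb_card_mul H (h.symm.stab_le hu1 hu0)).symm⟩ : Nat.card (orb ρ H u) ∣ 2 ^ k)
  rw [horb, Nat.card_coe_set_eq] at ha
  have h4 := Set.ncard_diff_singleton_add_one (show (0 : V) ∈ (W1 : Set V) from zero_mem W1) (Set.toFinite _)
  rw [ha, ← Nat.card_coe_set_eq (W1 : Set V)] at h4
  simp only [SetLike.coe_sort_coe] at h4
  set d := Module.finrank (ZMod q) W1
  have hd : Nat.card W1 = q ^ d := by rw [Module.natCard_eq_pow_finrank (K := ZMod q), Nat.card_zmod]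
  have hd1 : 1 ≤ d := Nat.one_le_iff_ne_zero.2 fun h0 => by
    rw [h0, pow_zero] at hd
    have := Nat.one_le_two_pow (n := a)
    omega
  have hV : Nat.card V = Nat.card W1 * Nat.card W1 := by
    rw [← Nat.card_congr (Submodule.prodEquivOfIsCompl W0 W1 h.compl).toEquiv, Nat.card_prod, h.card_eq]
  rcases exp_of_pred_pow hq hq2 hd1 (h4.trans hd) with h1 | ⟨h1, h2⟩
  · right
    rw [h1, pow_one] at hd
    exact ⟨by rw [hV, hd, pow_two], ⟨a, by rw [← hd, ← h4]⟩, h.monomial hρ hst hns (h.card_eq.trans hd)⟩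
  · left
    exact ⟨by rw [hV, hd, h1, h2]; norm_num, h1⟩

end TwoBlocks

end Cfsg.Agent.LocalEven.HalfTrans
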