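import Cfsg.Agent.Lib.LocalEven.HalfTrans.Basic

/-!
# Half-transitive linear groups of dihedral and semidihedral type

With a cyclic subgroup of index two the stabilisers are generated by non-central involutions, whose fixed spaces
partition the space; counting leaves a plane over a field of Mersenne order.
-/

set_option autoImplicit false

namespace Cfsg.Agent.LocalEven.HalfTrans

universe u v

/-- If `q ^ f + 1` is a power of two then `f = 1`. -/
theorem exp_eq_one_of_succ_pow {q f m : ℕ} (hq : 2 < q) (hqo : Odd q) (hf : 1 ≤ f) (h : q ^ f + 1 = 2 ^ m) :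
    f = 1 := by
  by_contra hne
  rcases Nat.even_or_odd f with ⟨e, rfl⟩ | hfo
  · obtain ⟨k, hk⟩ := hqo.pow (n := e)
    have h1 : 4 * (k * k + k) + 2 = 2 ^ m := by rw [← h, pow_add, hk]; ring
    have hgt : 1 < q ^ e := Nat.one_lt_pow (by omega) (by omega)
    rcases m with _ | _ | m
    · simp at h1
    · have : k * k + k = 0 := by omega
      have : k = 0 := by nlinarith
      omega
    · rw [pow_succ, pow_succ] at h1
      omega
  · have hgeom : (∑ i ∈ Finset.range f, (-(q : ℤ)) ^ i) * (-(q : ℤ) - 1) = (-(q : ℤ)) ^ f - 1 := geom_sum_mul _ _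
    set S := ∑ i ∈ Finset.range f, (-(q : ℤ)) ^ i with hS
    have hmul : S * ((q : ℤ) + 1) = (2 : ℤ) ^ m := by
      have h2 : ((q : ℤ)) ^ f + 1 = 2 ^ m := by exact_mod_cast h
      rw [hfo.neg_pow] at hgeom
      linear_combination -hgeom + h2
    have hodd : ((S : ℤ) : ZMod 2) = 1 := by
      have hq1 : ((q : ℤ) : ZMod 2) = 1 := by
        rw [Int.cast_natCast]; exact (ZMod.natCast_eq_one_iff_odd).2 hqo
      rw [hS, Int.cast_sum]
      simp only [Int.cast_pow, Int.cast_neg, hq1, ZMod.neg_eq_self_mod_two, one_pow, Finset.sum_const,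
        Finset.card_range, nsmul_eq_mul, mul_one]
      exact (ZMod.natCast_eq_one_iff_odd).2 hfo
    have hnat : S.natAbs * (q + 1) = 2 ^ m := by
      have := congrArg Int.natAbs hmul
      rw [Int.natAbs_mul, Int.natAbs_pow] at this
      simpa [Int.natAbs_natCast] using (show ((q : ℤ) + 1).natAbs = q + 1 by omega) ▸ this
    obtain ⟨j, -, hj⟩ := (Nat.dvd_prime_pow Nat.prime_two).1 ⟨q + 1, hnat.symm⟩
    have hj0 : j = 0 := by
      by_contra hj0
      have h2 : (2 : ℤ) ∣ S := Int.natAbs_dvd_natAbs.1 (show (2 : ℤ).natAbs ∣ S.natAbs from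
        hj ▸ dvd_pow_self 2 hj0)
      rw [(ZMod.intCast_zmod_eq_zero_iff_dvd S 2).2 h2] at hodd
      exact zero_ne_one hodd
    rw [hj, hj0, pow_zero, one_mul, ← h] at hnat
    have : q ^ f = q ^ 1 := by rw [pow_one]; omega
    exact hne (Nat.pow_right_injective (by omega) this)

variable {q : ℕ} [Fact q.Prime] {V : Type v} [AddCommGroup V] [Module (ZMod q) V] [Finite V] [Nontrivial V]
  {G : Type u} [Group G] [Finite G] {ρ : G →* (V ≃ₗ[ZMod q] V)}

set_option maxHeartbeats 800000 in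
theorem dihedral_like (hq2 : q ≠ 2) (hρ : Function.Injective ρ) (hst : EqStab ρ) (hns : ¬ Semi ρ)
    (hirr : ∀ W : Submodule (ZMod q) V, (∀ g : G, ∀ w ∈ W, ρ g w ∈ W) → W = ⊥ ∨ W = ⊤)
    {N M r m : ℕ} (hN : 0 < N) (hMN : M ∣ N) (hr : r + 1 = M) (hM4 : 4 ∣ M) (hMm : M = 2 ^ m) (hN2 : ∃ a, N = 2 ^ a)
    (x y : G) (hx : orderOf x = N) (hy : orderOf y = 2) (hcard : Nat.card G = 2 * N)
    (hrel : y * x * y⁻¹ = x ^ r) : Nat.card V = q ^ 2 ∧ q = 2 ^ m - 1 := by
  classical
  have hq : q.Prime := Fact.out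
  have hqo : Odd q := hq.odd_of_ne_two hq2
  have h2q : (2 : ZMod q) ≠ 0 := by
    rw [show (2 : ZMod q) = ((2 : ℕ) : ZMod q) from Nat.cast_ofNat.symm, Ne, ZMod.natCast_eq_zero_iff]
    exact fun h => hq2 ((Nat.prime_dvd_prime_iff_eq hq Nat.prime_two).1 h)
  obtain ⟨L, hL⟩ := hMN
  obtain ⟨M4, hM4'⟩ := hM4
  have hL0 : 0 < L := Nat.pos_of_ne_zero fun h => by simp [h] at hL; omega
  have hM0 : 0 < M := Nat.pos_of_ne_zero fun h => by simp [h] at hL; omega
  have hone : ∀ k : ℕ, x ^ k = 1 ↔ N ∣ k := fun k => by rw [← orderOf_dvd_iff_pow_eq_one, hx]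
  have hy2 : y * y = 1 := by rw [← pow_two, ← hy, pow_orderOf_eq_one]
  have hyinv : y⁻¹ = y := inv_eq_of_mul_eq_one_right hy2
  have hrelk : ∀ k : ℕ, y * x ^ k * y⁻¹ = x ^ (r * k) := fun k => by rw [← conj_pow, hrel, ← pow_mul]
  let C : Subgroup G := Subgroup.zpowers x
  have hC2 : C.index = 2 := by
    have h := Subgroup.card_mul_index C
    rw [Nat.card_zpowers, hx, hcard, mul_comm 2 N] at h
    exact Nat.eq_of_mul_eq_mul_left hN h
  have hCmem : ∀ g ∈ C, ∃ i : ℕ, i < N ∧ x ^ i = g := by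
    intro g hg
    obtain ⟨k, hk⟩ := Subgroup.mem_zpowers_iff.1 hg
    refine ⟨(k % (N : ℤ)).toNat, ?_, ?_⟩
    · have := Int.emod_lt_of_pos k (by exact_mod_cast hN : (0 : ℤ) < N)
      omega
    · rw [← zpow_natCast, Int.toNat_of_nonneg (Int.emod_nonneg k (by omega)), ← hx, zpow_mod_orderOf, hk]
  have hyC : y ∉ C := fun hyC => by
    obtain ⟨i, -, hi⟩ := hCmem y hyC
    have h1 : x ^ r = x ^ 1 := by
      rw [← hrel, ← hi, pow_one, (Commute.pow_self x i).eq, mul_inv_cancel_right]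
    have h2 : x ^ (r - 1) = 1 := by rw [pow_sub _ (by omega : 1 ≤ r), h1, mul_inv_cancel]
    have h3 := Nat.le_of_dvd (by omega) ((hone _).1 h2)
    rw [hL] at h3
    have := Nat.le_mul_of_pos_right M hL0
    omega
  have hout : ∀ g, g ∉ C → ∃ i : ℕ, i < N ∧ g = x ^ i * y := by
    intro g hg
    have h1 : g * y ∈ C := (Subgroup.mul_mem_iff_of_index_two hC2).2 (iff_of_false hg hyC)
    obtain ⟨i, hi, hgi⟩ := hCmem _ h1
    exact ⟨i, hi, by rw [hgi, mul_assoc, hy2, mul_one]⟩
  have hsq : ∀ i : ℕ, (x ^ i * y) * (x ^ i * y) = x ^ (i * M) := fun i => by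
    have h1 : y * x ^ i * y = x ^ (r * i) := by rw [← hrelk, hyinv]
    calc (x ^ i * y) * (x ^ i * y) = x ^ i * (y * x ^ i * y) := by group
    _ = x ^ (i * M) := by rw [h1, ← pow_add, ← hr]; ring_nf
  -- the central involution
  have hN4 : N = 4 * (M4 * L) := by rw [hL, hM4']; ring
  have hM40 : 0 < M4 * L := Nat.mul_pos (by omega) hL0
  set z := x ^ (2 * (M4 * L)) with hz
  set c := x ^ (M4 * L) with hc
  have hcc : c * c = z := by rw [hc, hz, ← pow_add, two_mul]
  have hz1 : z ≠ 1 := fun h => by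
    have := Nat.le_of_dvd (by omega) ((hone _).1 h)
    omega
  have hyz : y * z * y⁻¹ = z := by
    rw [hz, hrelk]
    obtain ⟨s, hs⟩ : ∃ s, r = 2 * s + 1 := ⟨2 * M4 - 1, by omega⟩
    rw [hs, add_mul, one_mul, pow_add, (hone _).2 ⟨s, by rw [hN4]; ring⟩, one_mul]
  have hzc : ∀ g : G, g * z = z * g := by
    intro g
    by_cases hg : g ∈ C
    · obtain ⟨i, -, rfl⟩ := hCmem g hg
      exact (Commute.pow_pow_self x i _).eq
    · obtain ⟨i, -, rfl⟩ := hout g hg
      rw [mul_assoc, mul_inv_eq_iff_eq_mul.1 hyz, ← mul_assoc, ← mul_assoc, (Commute.pow_pow_self x i _).eq]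
  have hzz : z * z = 1 := by rw [hz, ← pow_add]; exact (hone _).2 ⟨1, by omega⟩
  have hzfix : ∀ v : V, ρ z v = v → v = 0 := fun v hv => by
    by_contra h0
    exact hz1 (eq_one_of_central hρ hirr hzc h0 hv)
  have hzneg : ∀ v : V, ρ z v = -v := fun v => by
    refine eq_neg_of_add_eq_zero_left (hzfix _ ?_)
    rw [map_add, ← rho_mul, hzz, rho_one, add_comm]
  -- the cyclic subgroup is semiregular
  have hCsemi : ∀ g ∈ C, ∀ v : V, v ≠ 0 → ρ g v = v → g = 1 := by
    intro g hg v hv hgv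
    by_contra hg1
    obtain ⟨i, -, rfl⟩ := hCmem g hg
    have ho : 2 ∣ orderOf (x ^ i) := by
      obtain ⟨a, ha⟩ := hN2
      obtain ⟨b, -, hb⟩ := (Nat.dvd_prime_pow Nat.prime_two).1 (ha ▸ hx ▸ orderOf_pow_dvd i)
      exact hb ▸ dvd_pow_self 2 fun h => hg1 (orderOf_eq_one_iff.1 (by rw [hb, h, pow_zero]))
    obtain ⟨k, hk⟩ := ho
    have h1 : (x ^ i) ^ k ≠ 1 := fun h => by
      have hpos := orderOf_pos (x ^ i)
      have := Nat.le_of_dvd (by omega) (orderOf_dvd_of_pow_eq_one h)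
      omega
    have h2 : ((x ^ i) ^ k) ^ 2 = 1 := by rw [← pow_mul, mul_comm, ← hk, pow_orderOf_eq_one]
    rw [← pow_mul, ← pow_mul, hone] at h2
    rw [← pow_mul, Ne, hone] at h1
    obtain ⟨t, ht⟩ := h2
    obtain ⟨s, rfl⟩ : ∃ s, t = 2 * s + 1 := by
      rcases Nat.even_or_odd t with ⟨s, rfl⟩ | ⟨s, hs⟩
      · exact absurd ⟨s, by linarith⟩ h1
      · exact ⟨s, hs⟩
    have h3 : i * k = N * s + 2 * (M4 * L) := by
      rw [hN4] at ht ⊢
      linarith
    have h4 : ρ z v = v := by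
      have := rho_pow_fix hgv k
      rwa [← pow_mul, h3, pow_add, (hone _).2 (dvd_mul_right N s), one_mul] at this
    exact hv (hzfix v h4)
  -- the involutions outside the cyclic subgroup
  let t : Fin M → G := fun j => x ^ (L * j.val) * y
  have htsq : ∀ j, t j * t j = 1 := fun j => by
    show (x ^ (L * j.val) * y) * (x ^ (L * j.val) * y) = 1
    rw [hsq, hone, hL]
    exact ⟨j.val, by ring⟩
  have htC : ∀ j, t j ∉ C := fun j h => hyC (by
    have := C.mul_mem (C.inv_mem (pow_mem (Subgroup.mem_zpowers x) (L * j.val))) h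
    rwa [inv_mul_cancel_left] at this)
  have htinj : Function.Injective t := fun i j h => by
    have h1 : x ^ (L * i.val) = x ^ (L * j.val) := mul_right_cancel h
    have hlt : ∀ a : Fin M, L * a.val < orderOf x := fun a => by
      rw [hx, hL, mul_comm M L]; exact Nat.mul_lt_mul_of_pos_left a.2 hL0
    exact Fin.ext (Nat.eq_of_mul_eq_mul_left hL0 (pow_injOn_Iio_orderOf (hlt i) (hlt j) h1))
  have htsurj : ∀ g, g ∉ C → g * g = 1 → ∃ j, t j = g := by
    intro g hg hgg
    obtain ⟨i, hi, rfl⟩ := hout g hg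
    rw [hsq, hone, hL, mul_comm i M] at hgg
    obtain ⟨j, hj⟩ := Nat.dvd_of_mul_dvd_mul_left hM0 hgg
    refine ⟨⟨j, ?_⟩, by show x ^ (L * j) * y = _; rw [hj]⟩
    rw [hj, hL] at hi
    exact Nat.lt_of_mul_lt_mul_left (a := L) (by rwa [mul_comm M L] at hi)
  have htc : ∀ j, t j * c * (t j)⁻¹ = c⁻¹ := fun j => by
    have h1 : y * c * y⁻¹ = c⁻¹ := by
      rw [hc, hrelk, eq_inv_iff_mul_eq_one, ← pow_add, hone, hN4, ← Nat.succ_mul, Nat.succ_eq_add_one, hr, hM4']
      exact ⟨M4, by ring⟩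
    calc t j * c * (t j)⁻¹ = x ^ (L * j.val) * (y * c * y⁻¹) * (x ^ (L * j.val))⁻¹ := by
          simp only [t, mul_inv_rev, mul_assoc]
    _ = c⁻¹ := by
      rw [h1, ← ((Commute.pow_pow_self x (L * j.val) (M4 * L)).inv_right).eq.symm, mul_assoc, mul_inv_cancel, mul_one]
  -- all fixed spaces have the square root of the order of `V`
  have hcneg : ∀ v : V, ρ c⁻¹ v = -ρ c v := fun v => by
    rw [← map_neg, ← hzneg, ← rho_mul]
    congr 2
    rw [inv_eq_iff_mul_eq_one, ← mul_assoc, hcc, hzz]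
  have hsize : ∀ j, Nat.card {v : V // ρ (t j) v = v} ^ 2 = Nat.card V := by
    intro j
    have htcv : ∀ v, ρ (t j) (ρ c v) = ρ c⁻¹ (ρ (t j) v) := fun v => by
      rw [← rho_mul, ← rho_mul, mul_inv_eq_iff_eq_mul.1 (htc j)]
    let F : {v : V // ρ (t j) v = v} × {v : V // ρ (t j) v = v} → V := fun p => p.1.1 + ρ c p.2.1
    have hTF : ∀ p, ρ (t j) (F p) = p.1.1 - ρ c p.2.1 := fun p => by
      show ρ (t j) (p.1.1 + ρ c p.2.1) = _
      rw [map_add, p.1.2, htcv, p.2.2, hcneg, sub_eq_add_neg]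
    have hF : Function.Bijective F := by
      constructor
      · rintro ⟨⟨a, ha⟩, ⟨b, hb⟩⟩ ⟨⟨a', ha'⟩, ⟨b', hb'⟩⟩ h
        have h1 := congrArg (ρ (t j)) h
        rw [hTF, hTF] at h1
        simp only [F] at h h1
        have h2 : (2 : ZMod q) • a = (2 : ZMod q) • a' := by
          rw [two_smul, two_smul]
          calc a + a = (a + ρ c b) + (a - ρ c b) := by abel
          _ = (a' + ρ c b') + (a' - ρ c b') := by rw [h, h1]
          _ = a' + a' := by abel
        have h3 : a = a' := smul_right_injective V h2q h2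
        subst h3
        exact Prod.ext rfl (Subtype.ext ((ρ c).injective (add_left_cancel h)))
      · intro v
        have htt : ρ (t j) (ρ (t j) v) = v := by rw [← rho_mul, htsq, rho_one]
        let a := (2 : ZMod q)⁻¹ • (v + ρ (t j) v)
        let b := ρ c⁻¹ ((2 : ZMod q)⁻¹ • (v - ρ (t j) v))
        have ha : ρ (t j) a = a := by
          show ρ (t j) ((2 : ZMod q)⁻¹ • (v + ρ (t j) v)) = _
          rw [map_smul, map_add, htt, add_comm]
        have hb : ρ (t j) b = b := by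
          show ρ (t j) (ρ c⁻¹ _) = _
          have h1 : t j * c⁻¹ = c * t j := by
            have := congrArg (·⁻¹) (htc j)
            simp only [mul_inv_rev, inv_inv, ← mul_assoc] at this
            exact mul_inv_eq_iff_eq_mul.1 this
          rw [← rho_mul, h1, rho_mul, map_smul, map_sub, htt, ← neg_sub v, smul_neg, map_neg, ← hcneg]
        refine ⟨(⟨a, ha⟩, ⟨b, hb⟩), ?_⟩
        show a + ρ c b = v
        rw [rho_apply_inv, ← smul_add, show v + ρ (t j) v + (v - ρ (t j) v) = (2 : ZMod q) • v by rw [two_smul]; abel,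
          smul_smul, inv_mul_cancel₀ h2q, one_smul]
    rw [← Nat.card_eq_of_bijective F hF, Nat.card_prod, pow_two]
  have hj0 : Nonempty (Fin M) := ⟨⟨0, hM0⟩⟩
  obtain ⟨j0⟩ := hj0
  set s := Nat.card {v : V // ρ (t j0) v = v} with hs
  have hss : ∀ j, Nat.card {v : V // v ≠ 0 ∧ ρ (t j) v = v} + 1 = s := by
    intro j
    have h1 : Nat.card {v : V // ρ (t j) v = v} = s :=
      Nat.pow_left_injective (by norm_num : (2 : ℕ) ≠ 0) ((hsize j).trans (hsize j0).symm)
    have h2 := Set.ncard_diff_singleton_add_one (show (0 : V) ∈ {v : V | ρ (t j) v = v} from map_zero _)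
      (Set.toFinite _)
    rw [← h1]
    convert h2 using 2
    · rw [← Nat.card_coe_set_eq]
      exact Nat.card_congr (Equiv.subtypeEquivRight fun v => by simp [and_comm])
    · rw [← Nat.card_coe_set_eq]; rfl
  let F : (Σ j : Fin M, {v : V // v ≠ 0 ∧ ρ (t j) v = v}) → {v : V // v ≠ 0} := fun p => ⟨p.2.1, p.2.2.1⟩
  have hF : Function.Bijective F := by
    constructor
    · rintro ⟨i, a, ha, hai⟩ ⟨j, b, hb, hbj⟩ h
      obtain rfl : a = b := congrArg Subtype.val h
      have h1 : t i * t j = 1 := hCsemi _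
        ((Subgroup.mul_mem_iff_of_index_two hC2).2 (iff_of_false (htC i) (htC j))) a ha (by rw [rho_mul, hbj, hai])
      obtain rfl : i = j := htinj (mul_right_cancel (b := t j) (h1.trans (htsq j).symm))
      rfl
    · rintro ⟨v, hv⟩
      obtain ⟨g, hg1, hgv⟩ := hst.exists_fix hns hv
      have hgC : g ∉ C := fun h => hg1 (hCsemi g h v hv hgv)
      have hgg : g * g = 1 := hCsemi _ ((Subgroup.mul_mem_iff_of_index_two hC2).2 Iff.rfl) v hv
        (by rw [rho_mul, hgv, hgv])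
      obtain ⟨j, rfl⟩ := htsurj g hgC hgg
      exact ⟨⟨j, v, hv, hgv⟩, rfl⟩
  have hcount : Nat.card V = M * (s - 1) + 1 := by
    have h1 := Nat.card_eq_of_bijective F hF
    rw [Nat.card_sigma, Finset.sum_congr rfl fun j _ => show _ = s - 1 by have := hss j; omega, Finset.sum_const,
      Finset.card_univ, Fintype.card_fin, smul_eq_mul] at h1
    have h2 := Set.ncard_diff_singleton_add_one (Set.mem_univ (0 : V)) Set.finite_univ
    rw [Set.ncard_univ, ← Nat.card_coe_set_eq,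
      Nat.card_congr (Equiv.subtypeEquivRight fun v => by simp : ↥(Set.univ \ {(0 : V)}) ≃ {v : V // v ≠ 0}),
      ← h1] at h2
    exact h2.symm
  have hV1 : 1 < Nat.card V := Finite.one_lt_card
  have hs2 : Nat.card V = s ^ 2 := (hsize j0).symm
  have hs1 : 1 < s := by
    by_contra h
    have h1 : s ^ 2 ≤ 1 := Nat.pow_le_one_iff (by norm_num) |>.2 (by omega)
    omega
  have hsM : s + 1 = M := by
    obtain ⟨u, hu⟩ : ∃ u, s = u + 2 := ⟨s - 2, by omega⟩
    rw [hu] at hcount hs2 ⊢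
    rw [hcount, show u + 2 - 1 = u + 1 by omega] at hs2
    refine Nat.eq_of_mul_eq_mul_right (by omega : 0 < u + 1) ?_
    nlinarith
  obtain ⟨f, -, hf⟩ := (Nat.dvd_prime_pow hq).1 (show s ∣ q ^ Module.finrank (ZMod q) V by
    have := Module.natCard_eq_pow_finrank (K := ZMod q) (V := V)
    rw [Nat.card_zmod, hs2] at this
    rw [← this]; exact dvd_pow_self s (by norm_num))
  have hf1 : f = 1 := exp_eq_one_of_succ_pow (by have := hq.two_le; omega) hqo
    (Nat.one_le_iff_ne_zero.2 fun h => by rw [hf, h, pow_zero] at hs1; omega) (by rw [← hf, hsM, hMm])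
  rw [hf1, pow_one] at hf
  exact ⟨by rw [hs2, hf], by omega⟩

end Cfsg.Agent.LocalEven.HalfTrans
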