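import Cfsg.Agent.Lib.LocalEven.HalfTrans.Cyclic
import Cfsg.Agent.Lib.LocalEven.HalfTrans.Blocks
import Cfsg.Agent.S3380
import Cfsg.Prelude

/-!
# Half-transitive linear p-groups: the case division
-/

set_option autoImplicit false
open Cfsg

namespace Cfsg.Agent.LocalEven.HalfTrans

universe u v

variable {q : ℕ} [Fact q.Prime] {V : Type v} [AddCommGroup V] [Module (ZMod q) V] [Finite V] [Nontrivial V]
  {G : Type u} [Group G] [Finite G] {ρ : G →* (V ≃ₗ[ZMod q] V)}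

theorem semi_of_comm (hρ : Function.Injective ρ)
    (hirr : ∀ W : Submodule (ZMod q) V, (∀ g : G, ∀ w ∈ W, ρ g w ∈ W) → W = ⊥ ∨ W = ⊤)
    (hc : ∀ a b : G, a * b = b * a) : Semi ρ :=
  fun _ hv z hz => eq_one_of_central hρ hirr (fun g => hc g z) hv hz

theorem of_dihedral {p : ℕ} [Fact p.Prime] (hG : IsPGroup p G) (hpq : p ≠ q) (hρ : Function.Injective ρ)
    (hst : EqStab ρ) (hns : ¬ Semi ρ)
    (hirr : ∀ W : Submodule (ZMod q) V, (∀ g : G, ∀ w ∈ W, ρ g w ∈ W) → W = ⊥ ∨ W = ⊤)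
    {n : ℕ} (e : G ≃* DihedralGroup n) :
    Nat.card V = q ^ 2 ∧ ∃ m : ℕ, q = 2 ^ m - 1 ∧ Nonempty (G ≃* DihedralGroup (2 ^ m)) := by
  have hp : p.Prime := Fact.out
  have : Finite (DihedralGroup n) := Finite.of_equiv G e.toEquiv
  have hn : NeZero n := ⟨fun h => by
    subst h
    have : Finite (ZMod 0) := Finite.of_injective (DihedralGroup.r (n := 0)) fun _ _ h => by simpa using h
    exact (Infinite.not_finite (α := ℤ)) this⟩
  have hcard : Nat.card G = 2 * n := (Nat.card_congr e.toEquiv).trans DihedralGroup.nat_card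
  obtain ⟨k, hk⟩ := IsPGroup.iff_card.1 hG
  rw [hcard] at hk
  obtain rfl : p = 2 := ((Nat.prime_dvd_prime_iff_eq Nat.prime_two hp).1
    (Nat.prime_two.dvd_of_dvd_pow (hk ▸ dvd_mul_right 2 n))).symm
  obtain ⟨j, rfl⟩ : ∃ j, k = j + 1 := Nat.exists_eq_add_one.2 (Nat.pos_of_ne_zero fun h => by
    rw [h, pow_zero] at hk; omega)
  obtain rfl : n = 2 ^ j := by rw [pow_succ] at hk; omega
  rcases j with _ | _ | j
  · exfalso
    refine hns (semi_of_comm hρ hirr fun a b => e.injective ?_)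
    rw [map_mul, map_mul]
    generalize e a = a'; generalize e b = b'; revert a' b'; decide
  · exfalso
    refine hns (semi_of_comm hρ hirr fun a b => e.injective ?_)
    rw [map_mul, map_mul]
    generalize e a = a'; generalize e b = b'; revert a' b'; decide
  · obtain ⟨hV, hq⟩ := dihedral_like hpq.symm hρ hst hns hirr (N := 2 ^ (j + 2)) (M := 2 ^ (j + 2))
      (r := 2 ^ (j + 2) - 1) (m := j + 2) (Nat.two_pow_pos _) dvd_rfl (by have := Nat.one_le_two_pow (n := j + 2); omega)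
      ⟨2 ^ j, by rw [pow_add]; ring⟩ rfl ⟨_, rfl⟩ (e.symm (DihedralGroup.r 1)) (e.symm (DihedralGroup.sr 0))
      (by rw [MulEquiv.orderOf_eq]; exact DihedralGroup.orderOf_r_one)
      (by rw [MulEquiv.orderOf_eq]; exact DihedralGroup.orderOf_sr 0) hcard (by
        rw [← map_inv, ← map_mul, ← map_mul, ← map_pow, e.symm.injective.eq_iff, DihedralGroup.r_one_pow,
          DihedralGroup.sr_mul_r, zero_add, DihedralGroup.inv_sr, DihedralGroup.sr_mul_sr, zero_sub,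
          Nat.cast_sub Nat.one_le_two_pow, ZMod.natCast_self, Nat.cast_one, zero_sub])
    exact ⟨hV, j + 2, hq, ⟨e⟩⟩

theorem of_quasiDihedral {p : ℕ} [Fact p.Prime] (hG : IsPGroup p G) (hpq : p ≠ q) (hρ : Function.Injective ρ)
    (hst : EqStab ρ) (hns : ¬ Semi ρ)
    (hirr : ∀ W : Submodule (ZMod q) V, (∀ g : G, ∀ w ∈ W, ρ g w ∈ W) → W = ⊥ ∨ W = ⊤)
    (hs : Cfsg.IsQuasiDihedral G) :
    Nat.card V = q ^ 2 ∧ ∃ m : ℕ, q = 2 ^ m - 1 ∧ Nat.card G = 2 ^ (m + 2) := by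
  obtain ⟨n, hn, hcard, x, y, hx, hy, hrel⟩ := hs
  obtain ⟨k, hk⟩ := IsPGroup.iff_card.1 hG
  obtain rfl : p = 2 := ((Nat.prime_dvd_prime_iff_eq Nat.prime_two Fact.out).1
    (Nat.prime_two.dvd_of_dvd_pow (hk ▸ hcard ▸ dvd_pow_self 2 n.succ_ne_zero))).symm
  obtain ⟨j, rfl⟩ : ∃ j, n = j + 3 := ⟨n - 3, by omega⟩
  rw [show j + 3 - 1 = j + 2 from rfl] at hrel
  obtain ⟨hV, hq⟩ := dihedral_like hpq.symm hρ hst hns hirr (N := 2 ^ (j + 3)) (M := 2 ^ (j + 2))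
    (r := 2 ^ (j + 2) - 1) (m := j + 2) (Nat.two_pow_pos _) (pow_dvd_pow 2 (by omega))
    (by have := Nat.one_le_two_pow (n := j + 2); omega)
    ⟨2 ^ j, by rw [pow_add]; ring⟩ rfl ⟨_, rfl⟩ x y hx hy (by rw [hcard, pow_succ]; ring) hrel
  exact ⟨hV, j + 2, hq, hcard⟩

theorem eq_swap : ∀ σ : Equiv.Perm (Fin 2), σ ≠ 1 → σ 0 = 1 ∧ σ 1 = 0 := by decide

theorem blocks_odd {p : ℕ} [Fact p.Prime] (hp2 : p ≠ 2) (hρ : Function.Injective ρ) (hst : EqStab ρ)
    (H : Subgroup G) (W : Fin p → Submodule (ZMod q) V) (hsup : iSup W = ⊤) (hind : iSupIndep W)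
    (hkeep : ∀ h ∈ H, ∀ i, ∀ w ∈ W i, ρ h w ∈ W i) (hidx : H.index = p)
    (hperm : ∀ g : G, g ∉ H → ∃ σ : Equiv.Perm (Fin p), orderOf σ = p ∧
      ∀ i, (W i).map (ρ g : V →ₗ[ZMod q] V) = W (σ i)) : Semi ρ := by
  classical
  have hp : p.Prime := Fact.out
  have hp3 : 3 ≤ p := by have := hp.two_le; omega
  -- no fixed points and no transposed pairs
  have hσ : ∀ σ : Equiv.Perm (Fin p), orderOf σ = p → ∀ i, σ i ≠ i ∧ σ (σ i) ≠ i := by
    intro σ hσ
    have hcyc : σ.IsCycle := Equiv.Perm.isCycle_of_prime_order'' ((Fintype.card_fin p).symm ▸ hp)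
      (by rw [Fintype.card_fin, hσ])
    have hfull : σ.support = Finset.univ := Finset.eq_univ_of_card _ (by rw [← hcyc.orderOf, hσ, Fintype.card_fin])
    intro i
    have hi : σ i ≠ i := Equiv.Perm.mem_support.1 (hfull ▸ Finset.mem_univ i)
    refine ⟨hi, fun h2 => ?_⟩
    have h3 : (σ ^ 2) i = i := by rw [pow_two, Equiv.Perm.mul_apply, h2]
    have h4 : σ ^ 2 = 1 := hcyc.pow_eq_one_iff.2 ⟨i, hi, h3⟩
    have := Nat.le_of_dvd (by norm_num) (orderOf_dvd_of_pow_eq_one h4)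
    omega
  have hmem : ∀ g, g ∉ H → ∃ σ : Equiv.Perm (Fin p), (∀ i, σ i ≠ i ∧ σ (σ i) ≠ i) ∧
      ∀ i, ∀ w ∈ W i, ρ g w ∈ W (σ i) := by
    intro g hg
    obtain ⟨σ, ho, hm⟩ := hperm g hg
    exact ⟨σ, hσ σ ho, fun i w hw => hm i ▸ ⟨w, hw, rfl⟩⟩
  have hdis : ∀ {i j}, i ≠ j → ∀ x, x ∈ W i → x ∈ W j → x = 0 := fun {i j} hij x h1 h2 =>
    Submodule.disjoint_def.1 (hind.pairwiseDisjoint hij) x h1 h2
  have hdis3 : ∀ {i} (s : Set (Fin p)), i ∉ s → ∀ x, x ∈ W i → x ∈ ⨆ j ∈ s, W j → x = 0 := fun {i} s hi x h1 h2 =>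
    Submodule.disjoint_def.1 (hind.disjoint_biSup hi) x h1 h2
  have hone : ∀ v i, v ∈ W i → v ≠ 0 → ∀ g ∈ stab ρ v, g ∈ H := by
    intro v i hv hv0 g hg
    by_contra hgH
    obtain ⟨σ, hs, hm⟩ := hmem g hgH
    have := hm i v hv
    rw [mem_stab.1 hg] at this
    exact hv0 (hdis (hs i).1.symm v hv this)
  have hkey : ∀ i j, i ≠ j → ∀ v ∈ W i, v ≠ 0 → ∀ w ∈ W j, w ≠ 0 → stab ρ v = stab ρ w := by
    intro i j hij v hv hv0 w hw hw0
    refine hst.eq_of_sum hv0 hw0 (fun he => hv0 (hdis hij v hv ?_)) fun g hg => ?_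
    · rw [eq_neg_of_add_eq_zero_left he]; exact neg_mem hw
    · rw [map_add] at hg
      by_cases hgH : g ∈ H
      · have h1 : ρ g v - v = w - ρ g w := by rw [sub_eq_sub_iff_add_eq_add, hg, add_comm]
        have h2 : ρ g v - v = 0 :=
          hdis hij _ (sub_mem (hkeep g hgH i v hv) hv) (h1 ▸ sub_mem hw (hkeep g hgH j w hw))
        rw [h2, eq_comm, sub_eq_zero] at h1
        exact ⟨sub_eq_zero.1 h2, h1.symm⟩
      · exfalso
        obtain ⟨σ, hs, hm⟩ := hmem g hgH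
        have h1 := hm i v hv
        have h2 := hm j w hw
        have hne : σ i ≠ σ j := fun h => hij (σ.injective h)
        -- one of the two images is a third block
        rcases eq_or_ne (σ i) j with hij' | hij'
        · have hji : σ j ≠ i := fun h => (hs i).2 (by rw [hij', h])
          refine rho_ne_zero g hw0 (hdis3 ({i, j} : Set (Fin p)) (i := σ j) ?_ _ h2 ?_)
          · simp only [Set.mem_insert_iff, Set.mem_singleton_iff, not_or]
            exact ⟨hji, (hs j).1⟩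
          · rw [show ρ g w = v + w - ρ g v by rw [← hg]; abel]
            exact sub_mem (add_mem (Submodule.mem_iSup_of_mem i (Submodule.mem_iSup_of_mem (Or.inl rfl) hv))
              (Submodule.mem_iSup_of_mem j (Submodule.mem_iSup_of_mem (Or.inr rfl) hw)))
              (Submodule.mem_iSup_of_mem j (Submodule.mem_iSup_of_mem (Or.inr rfl) (hij' ▸ h1)))
        · refine rho_ne_zero g hv0 (hdis3 ({i, j, σ j} : Set (Fin p)) (i := σ i) ?_ _ h1 ?_)
          · simp only [Set.mem_insert_iff, Set.mem_singleton_iff, not_or]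
            exact ⟨(hs i).1, hij', hne⟩
          · rw [show ρ g v = v + w - ρ g w by rw [← hg]; abel]
            exact sub_mem (add_mem (Submodule.mem_iSup_of_mem i (Submodule.mem_iSup_of_mem (Or.inl rfl) hv))
              (Submodule.mem_iSup_of_mem j (Submodule.mem_iSup_of_mem (Or.inr (Or.inl rfl)) hw)))
              (Submodule.mem_iSup_of_mem (σ j) (Submodule.mem_iSup_of_mem (Or.inr (Or.inr rfl)) h2))
  -- every block is non-trivial
  obtain ⟨g0, hg0⟩ : ∃ g, g ∉ H := by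
    by_contra hc
    push Not at hc
    rw [(Subgroup.eq_top_iff' H).2 hc, Subgroup.index_top] at hidx
    omega
  obtain ⟨i, hi⟩ : ∃ i, W i ≠ ⊥ := by
    by_contra hc
    push Not at hc
    rw [iSup_congr hc, iSup_bot] at hsup
    exact bot_ne_top hsup
  obtain ⟨v, hv, hv0⟩ := Submodule.exists_mem_ne_zero_of_ne_bot hi
  obtain ⟨σ, hs, hm⟩ := hmem g0 hg0
  have hv2 := hm i v hv
  refine hst.semi_of_one hv0 fun g hg => hρ (LinearEquiv.ext fun x => ?_)
  rw [rho_one]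
  have htop : iSup W ≤ LinearMap.eqLocus (ρ g : V →ₗ[ZMod q] V) LinearMap.id := by
    refine iSup_le fun k w hw => ?_
    show ρ g w = w
    rcases eq_or_ne w 0 with rfl | hw0
    · exact map_zero _
    rcases eq_or_ne k i with rfl | hki
    · rw [hkey k (σ k) (hs k).1.symm v hv hv0 _ hv2 (rho_ne_zero g0 hv0),
        hkey (σ k) k (hs k).1 _ hv2 (rho_ne_zero g0 hv0) w hw hw0] at hg
      exact hg
    · rw [hkey i k hki.symm v hv hv0 w hw hw0] at hg
      exact hg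
  exact htop (hsup.symm ▸ Submodule.mem_top)

theorem main {p : ℕ} [Fact p.Prime] (hG : IsPGroup p G) (hρ : Function.Injective ρ) (hst : EqStab ρ) :
    ((IsCyclic G ∨ ∃ n : ℕ, Nonempty (G ≃* QuaternionGroup n)) ∧ ∀ v : V, v ≠ 0 → ∀ g : G, ρ g v = v → g = 1) ∨
    (Nat.card V = q ^ 2 ∧ ∃ m : ℕ, q = 2 ^ m - 1 ∧
      (Nonempty (G ≃* DihedralGroup (2 ^ m)) ∨ (Cfsg.IsQuasiDihedral G ∧ Nat.card G = 2 ^ (m + 2)))) ∨
    (Nat.card V = q ^ 2 ∧ (∃ m : ℕ, q = 2 ^ m + 1) ∧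
      ∃ e : V ≃ₗ[ZMod q] (Fin 2 → ZMod q), ∀ f : (Fin 2 → ZMod q) ≃ₗ[ZMod q] (Fin 2 → ZMod q),
        (∃ g : G, f = e.symm.trans ((ρ g).trans e)) ↔
        ∃ a s : ZMod q, a ≠ 0 ∧ (s = 1 ∨ s = -1) ∧
          ((∀ v, f v = ![a * v 0, s * a⁻¹ * v 1]) ∨ (∀ v, f v = ![s * a⁻¹ * v 1, a * v 0]))) ∨
    (Nat.card V = 81 ∧ q = 3 ∧ p = 2) := by
  by_cases hs : Semi ρ
  · exact Or.inl ⟨hs.cyclic_or_quaternion hG, hs⟩
  have hpq : p ≠ q := fun h => by
    have := trivial_of_char hG hρ hst h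
    exact hs semi_of_subsingleton
  have hirr : ∀ W : Submodule (ZMod q) V, (∀ g : G, ∀ w ∈ W, ρ g w ∈ W) → W = ⊥ ∨ W = ⊤ := fun W hW => by
    by_contra hc
    push Not at hc
    exact hs (semi_of_reducible hG hpq hρ hst W hW hc.1 hc.2)
  have hnc : ¬ IsCyclic G := fun h => hs (semi_of_comm hρ hirr fun a b => by
    have := IsCyclic.isMulCommutative (α := G)
    exact mul_comm' a b)
  have hnq : ∀ n : ℕ, ¬ Nonempty (G ≃* QuaternionGroup n) := fun n ⟨e⟩ =>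
    hs (semi_of_central_order hG hρ hirr fun z hz g => comm_of_quaternion hG e z hz g)
  by_cases hd : ∃ n : ℕ, Nonempty (G ≃* DihedralGroup n)
  · obtain ⟨n, ⟨e⟩⟩ := hd
    obtain ⟨hV, m, hq, he⟩ := of_dihedral hG hpq hρ hst hs hirr e
    exact Or.inr (Or.inl ⟨hV, m, hq, Or.inl he⟩)
  push Not at hd
  by_cases hsd : Cfsg.IsQuasiDihedral G
  · obtain ⟨hV, m, hq, hc⟩ := of_quasiDihedral hG hpq hρ hst hs hirr hsd
    exact Or.inr (Or.inl ⟨hV, m, hq, Or.inr ⟨hsd, hc⟩⟩)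
  obtain ⟨H, W, hidx, hsup, hind, hkeep, -, hperm⟩ := Cfsg.Agent.S3380.result q p hG ρ hρ hirr hnc hnq
    (fun n he => (hd n).false he.some) hsd
  by_cases hp2 : p = 2
  swap
  · exact absurd (blocks_odd hp2 hρ hst H W hsup hind hkeep hidx hperm) hs
  subst hp2
  have hswap : ∀ g, g ∉ H → (∀ w ∈ W 0, ρ g w ∈ W 1) ∧ (∀ w ∈ W 1, ρ g w ∈ W 0) := by
    intro g hg
    obtain ⟨σ, ho, hm⟩ := hperm g hg
    obtain ⟨h0, h1⟩ := eq_swap σ fun h => by rw [h, orderOf_one] at ho; omega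
    exact ⟨fun w hw => h0 ▸ hm 0 ▸ ⟨w, hw, rfl⟩, fun w hw => h1 ▸ hm 1 ▸ ⟨w, hw, rfl⟩⟩
  have hb : TwoBlocks ρ H (W 0) (W 1) :=
    ⟨hidx, ⟨hind.pairwiseDisjoint (by decide : (0 : Fin 2) ≠ 1), by
      rw [codisjoint_iff, eq_top_iff, ← hsup, iSup_le_iff, Fin.forall_fin_two]
      exact ⟨le_sup_left, le_sup_right⟩⟩, fun g hg => hkeep g hg 0, fun g hg => hkeep g hg 1,
      fun g hg => (hswap g hg).1, fun g hg => (hswap g hg).2⟩
  have hne : W 0 ≠ ⊥ ∧ W 1 ≠ ⊥ := by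
    obtain ⟨g0, hg0⟩ := hb.outside
    have h0 : W 0 ≠ ⊥ := fun h => by
      have h1 : W 1 = ⊥ := by
        rw [eq_bot_iff]
        intro w hw
        have := hb.swap1 g0 hg0 w hw
        rw [h, Submodule.mem_bot, map_eq_zero_iff _ (ρ g0).injective] at this
        exact this ▸ zero_mem _
      have := hb.compl.sup_eq_top
      rw [h, h1, sup_idem] at this
      exact bot_ne_top this
    refine ⟨h0, fun h => h0 ?_⟩
    rw [eq_bot_iff]
    intro w hw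
    have := hb.swap0 g0 hg0 w hw
    rw [h, Submodule.mem_bot, map_eq_zero_iff _ (ρ g0).injective] at this
    exact this ▸ zero_mem _
  have hq2 : q ≠ 2 := hpq.symm
  by_cases h1 : TwoBlocks.Trans ρ H (W 1)
  · rcases hb.trans_case hG hq2 hρ hst hs h1 hne.1 with ⟨hV, hq⟩ | hm
    · exact Or.inr (Or.inr (Or.inr ⟨hV, hq, rfl⟩))
    · exact Or.inr (Or.inr (Or.inl hm))
  by_cases h0 : TwoBlocks.Trans ρ H (W 0)
  · rcases hb.symm.trans_case hG hq2 hρ hst hs h0 hne.2 with ⟨hV, hq⟩ | hm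
    · exact Or.inr (Or.inr (Or.inr ⟨hV, hq, rfl⟩))
    · exact Or.inr (Or.inr (Or.inl hm))
  exact absurd (hb.semi_of_not_trans hq2 hρ hst h0 h1 hne.1) hs

end Cfsg.Agent.LocalEven.HalfTrans
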